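import Groth.Agent.CxOXLib.Open
import Groth.Agent.KoszOrthLib.Adj
import Groth.Agent.KFlatLib.HomologyCoprod
import Groth.Agent.FiltSectLib.Coprod
import Groth.Agent.DCohRestrLib.MV
import Groth.Agent.S6593
import Groth.Agent.S0998
import Groth.Agent.KFlatLib.QCohDev
import Groth.Agent.QCohLib.Acyclic

/-!
# `RΓ_Z` commutes with coproducts of complexes with quasi-coherent cohomology
-/

set_option autoImplicit false
set_option linter.style.haveILetI false
set_option backward.isDefEq.respectTransparency false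
set_option backward.isDefEq.respectTransparency.types false
set_option maxHeartbeats 1000000

noncomputable section

universe u

open CategoryTheory CategoryTheory.Limits AlgebraicGeometry TopologicalSpace Opposite
open Groth.Agent.DerLib CategoryTheory.Pretriangulated Groth.Agent.DCohRestrLib

attribute [local instance] HasDerivedCategory.standard

namespace RgammaCopLib

variable {U X : Scheme.{u}}

/-- kernel of restriction to equal opens -/
theorem gamma_comp_unit_zero {V : Scheme.{u}} (j : U ⟶ X) [IsOpenImmersion j] (k : V ⟶ X) [IsOpenImmersion k]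
    (h : j.opensRange = k.opensRange) (M : X.Modules) :
    kernel.ι ((Scheme.Modules.restrictAdjunction j).unit.app M) ≫
      (Scheme.Modules.restrictAdjunction k).unit.app M = 0 := by
  refine Scheme.Modules.hom_ext _ _ fun W => ?_
  ext a
  have hz := ConcreteCategory.congr_hom (congrArg (fun t => Scheme.Modules.Hom.app t W)
    (kernel.condition ((Scheme.Modules.restrictAdjunction j).unit.app M))) a
  have he : k ''ᵁ (k ⁻¹ᵁ W) = j ''ᵁ (j ⁻¹ᵁ W) := by
    rw [Scheme.Hom.image_preimage_eq_opensRange_inf, Scheme.Hom.image_preimage_eq_opensRange_inf, h]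
  have hz' : M.presheaf.map (homOfLE (j.image_preimage_le W)).op
      ((kernel.ι ((Scheme.Modules.restrictAdjunction j).unit.app M)).app W a) = 0 := hz
  show M.presheaf.map (homOfLE (k.image_preimage_le W)).op
      ((kernel.ι ((Scheme.Modules.restrictAdjunction j).unit.app M)).app W a) = 0
  have hc : M.presheaf.map (homOfLE (k.image_preimage_le W)).op =
      M.presheaf.map (homOfLE (j.image_preimage_le W)).op ≫ M.presheaf.map (homOfLE he.le).op := by
    rw [← Functor.map_comp]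
    rfl
  rw [hc, ConcreteCategory.comp_apply, hz', map_zero]

/-- `Γ_Z` depends only on the open set. -/
def gammaIso {V : Scheme.{u}} (j : U ⟶ X) [IsOpenImmersion j] (k : V ⟶ X) [IsOpenImmersion k]
    (h : j.opensRange = k.opensRange) : DCoh.gammaZ j ≅ DCoh.gammaZ k :=
  NatIso.ofComponents (fun M =>
    { hom := kernel.lift _ (kernel.ι _) (gamma_comp_unit_zero j k h M)
      inv := kernel.lift _ (kernel.ι _) (gamma_comp_unit_zero k j h.symm M)
      hom_inv_id := by rw [← cancel_mono (kernel.ι _)]; simp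
      inv_hom_id := by rw [← cancel_mono (kernel.ι _)]; simp })
    (fun {M N} f => by
      rw [← cancel_mono (kernel.ι _)]
      simp [DCoh.gammaZ])

theorem rgammaIso {V : Scheme.{u}} (j : U ⟶ X) [IsOpenImmersion j] (k : V ⟶ X) [IsOpenImmersion k]
    (h : j.opensRange = k.opensRange) [CxOX.HasRgammaZ j] :
    ∃ _ : CxOX.HasRgammaZ k, Nonempty (CxOX.RgammaZ j ≅ CxOX.RgammaZ k) := by
  let g := gammaIso j k h
  let σ : (DCoh.gammaZ j).mapHomotopyCategory (ComplexShape.up ℤ) ≅
      (DCoh.gammaZ k).mapHomotopyCategory (ComplexShape.up ℤ) :=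
    ⟨NatTrans.mapHomotopyCategory g.hom (ComplexShape.up ℤ), NatTrans.mapHomotopyCategory g.inv (ComplexShape.up ℤ),
      by rw [← NatTrans.mapHomotopyCategory_comp, Iso.hom_inv_id, NatTrans.mapHomotopyCategory_id],
      by rw [← NatTrans.mapHomotopyCategory_comp, Iso.inv_hom_id, NatTrans.mapHomotopyCategory_id]⟩
  let τ : CxOX.gammaZKh j ≅ CxOX.gammaZKh k := Functor.isoWhiskerRight σ DerivedCategory.Qh
  have hk : CxOX.HasRgammaZ k := (Functor.hasRightDerivedFunctor_iff_of_iso τ _).1 ‹_›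
  refine ⟨hk, ⟨Functor.rightDerivedNatIso _ _
    ((CxOX.gammaZKh j).totalRightDerivedUnit DerivedCategory.Qh (HomotopyCategory.quasiIso _ _))
    ((CxOX.gammaZKh k).totalRightDerivedUnit DerivedCategory.Qh (HomotopyCategory.quasiIso _ _))
    (HomotopyCategory.quasiIso _ _) τ⟩⟩

theorem isQCohD_RgammaZ (W : X.Opens) [QuasiCompact W.ι] [CxOX.HasRgammaZ W.ι] {E : DCoh.D X}
    (hE : DCoh.IsQCohD E) : DCoh.IsQCohD ((CxOX.RgammaZ W.ι).obj E) := by
  haveI : DCoh.HasRpush W.ι := Groth.Agent.DCohRestrLib.hasRpush W.ι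
  obtain ⟨J, hJ, b, c, hT⟩ := CxOXLib.exists_triangle W E
  haveI := hJ
  let F : DCoh.D (W : Scheme.{u}) := DerivedCategory.Q.obj J
  haveI := Groth.Agent.DCohRestrLib.isIso_pushUnit W.ι J
  let a := asIso ((Groth.Agent.DCohRestrLib.pushUnit W.ι).app ((HomotopyCategory.quotient _ _).obj J))
  haveI h₂ : IsIso ((DCoh.restrictD W.ι).map b) :=
    (((DCoh.restrictD W.ι).mapTriangle.obj (Triangle.mk ((CxOX.RgammaZToId W.ι).app E) b c)).isZero₁_iff_isIso₂
      ((DCoh.restrictD W.ι).map_distinguished _ hT)).1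
      ((CxOXLib.isSuppD_iff W.ι _).1 (CxOXLib.isSuppD_RgammaZ W E))
  obtain ⟨e⟩ := CxOXLib.nonempty_Rpush_restrictD W.ι
  have hF : DCoh.IsQCohD F := fun n => by
    haveI := CxOXLib.isQCohD_restrict W.ι hE n
    exact QCohLib.isQCoh_of_iso ((DerivedCategory.homologyFunctor _ n).mapIso
      (asIso ((DCoh.restrictD W.ι).map b) ≪≫ (DCoh.restrictD W.ι).mapIso a ≪≫ e.app F))
  have h3 : DCoh.IsQCohD ((DCoh.Rpush W.ι).obj F) := Groth.Agent.S0998.result W.ι F hF
  have h3' : DCoh.IsQCohD (Triangle.mk ((CxOX.RgammaZToId W.ι).app E) b c).obj₃ :=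
    KFlatLib.isQCohD_iso a.symm h3
  exact KFlatLib.isQCohD₂ (inv_rot_of_distTriang _ hT) (KFlatLib.isQCohD_shift h3' (-1)) hE

theorem isIso_sigmaDesc (W : X.Opens) [QuasiCompact W.ι] [CxOX.HasRgammaZ W.ι] {ι : Type u}
    (E : ι → DCoh.D X) (hE : ∀ i, DCoh.IsQCohD (E i)) [HasCoproduct E]
    [HasCoproduct (fun i => (CxOX.RgammaZ W.ι).obj (E i))] :
    IsIso (Sigma.desc (fun i => (CxOX.RgammaZ W.ι).map (Sigma.ι E i))) := by
  haveI : DCoh.HasRpush W.ι := Groth.Agent.DCohRestrLib.hasRpush W.ι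
  let adj := Groth.Agent.KoszOrthLib.restrictRpushAdj W.ι
  haveI : (DCoh.restrictD W.ι).IsLeftAdjoint := adj.isLeftAdjoint
  choose J hJ b c hT using fun i => CxOXLib.exists_triangle W (E i)
  haveI := hJ
  let F : ι → DCoh.D (W : Scheme.{u}) := fun i => DerivedCategory.Q.obj (J i)
  let a : ∀ i, DerivedCategory.Q.obj
      (((Scheme.Modules.pushforward W.ι).mapHomologicalComplex (ComplexShape.up ℤ)).obj (J i)) ≅
      (DCoh.Rpush W.ι).obj (F i) := fun i =>
    haveI := Groth.Agent.DCohRestrLib.isIso_pushUnit W.ι (J i)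
    asIso ((Groth.Agent.DCohRestrLib.pushUnit W.ι).app ((HomotopyCategory.quotient _ _).obj (J i)))
  let T : ι → Triangle (DCoh.D X) := fun i =>
    Triangle.mk ((CxOX.RgammaZToId W.ι).app (E i)) (b i ≫ (a i).hom) ((a i).inv ≫ c i)
  have hT' : ∀ i, T i ∈ distinguishedTriangles := fun i => by
    refine isomorphic_distinguished _ (hT i) _ (Triangle.isoMk _ _ (Iso.refl _) (Iso.refl _) (a i).symm ?_ ?_ ?_)
    · exact (Category.comp_id _).trans (Category.id_comp _).symm
    · show (b i ≫ (a i).hom) ≫ (a i).inv = 𝟙 _ ≫ b i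
      rw [Category.assoc, Iso.hom_inv_id, Category.comp_id, Category.id_comp]
    · show ((a i).inv ≫ c i) ≫ (shiftFunctor _ (1 : ℤ)).map (𝟙 _) = (a i).inv ≫ c i
      rw [CategoryTheory.Functor.map_id, Category.comp_id]
  have hF : ∀ i, DCoh.IsQCohD (F i) := fun i => by
    haveI h₂ : IsIso ((DCoh.restrictD W.ι).map (b i ≫ (a i).hom)) :=
      (((DCoh.restrictD W.ι).mapTriangle.obj (T i)).isZero₁_iff_isIso₂
        ((DCoh.restrictD W.ι).map_distinguished _ (hT' i))).1
        ((CxOXLib.isSuppD_iff W.ι _).1 (CxOXLib.isSuppD_RgammaZ W (E i)))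
    obtain ⟨e⟩ := CxOXLib.nonempty_Rpush_restrictD W.ι
    intro n
    haveI := CxOXLib.isQCohD_restrict W.ι (hE i) n
    exact QCohLib.isQCoh_of_iso ((DerivedCategory.homologyFunctor _ n).mapIso
      (asIso ((DCoh.restrictD W.ι).map (b i ≫ (a i).hom)) ≪≫ e.app (F i)))
  haveI : HasCoproduct F := KInjUse.hasCoproduct F
  haveI : HasCoproduct (fun i => (DCoh.Rpush W.ι).obj (F i)) := KInjUse.hasCoproduct _
  haveI : HasCoproduct (fun i => (T i).obj₁) :=
    inferInstanceAs (HasCoproduct (fun i => (CxOX.RgammaZ W.ι).obj (E i)))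
  haveI : HasCoproduct (fun i => (T i).obj₂) := inferInstanceAs (HasCoproduct E)
  haveI : HasCoproduct (fun i => (T i).obj₃) :=
    inferInstanceAs (HasCoproduct (fun i => (DCoh.Rpush W.ι).obj (F i)))
  have hcop := Groth.Agent.S6593.result T hT'
  haveI := FiltSectLib.isIso_sigmaDesc_rpush_of_isQCohD W.ι F hF
  have horth : CxOXLib.Orth W.ι (∐ fun i => (T i).obj₃) :=
    (CxOXLib.orth_Rpush_adj W.ι adj subset_rfl (∐ F)).of_iso
      (asIso (Sigma.desc (fun i => (DCoh.Rpush W.ι).map (Sigma.ι F i)))).symm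
  have hsupp : CxOX.IsSuppD W.ι (∐ fun i => (T i).obj₁) := by
    rw [CxOXLib.isSuppD_iff, IsZero.iff_id_eq_zero]
    refine (isColimitOfPreserves (DCoh.restrictD W.ι) (coproductIsCoproduct _)).hom_ext fun ⟨i⟩ => ?_
    exact ((CxOXLib.isSuppD_iff W.ι _).1 (CxOXLib.isSuppD_RgammaZ W (E i))).eq_of_src _ _
  obtain ⟨J', hJ', b', c', hT''⟩ := CxOXLib.exists_triangle W (∐ E)
  haveI := hJ'
  refine CxOXLib.isIso_of_lift hcop hT'' hsupp (CxOXLib.isSuppD_RgammaZ W _) horth
    (CxOXLib.orth_pushCx W.ι J') (Iso.refl _) _ ?_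
  refine Sigma.hom_ext _ _ fun i => ?_
  dsimp only [Triangle.mk_mor₁, Iso.refl_hom]
  erw [Category.comp_id, Sigma.ι_desc_assoc]
  exact ((CxOX.RgammaZToId W.ι).naturality (Sigma.ι E i)).trans (Sigma.ι_map (fun j => (T j).mor₁) i).symm

end RgammaCopLib
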